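import Groth.Agent.KRegLib.WeakReg
import Groth.Agent.KRegLib.Local
import Mathlib.RingTheory.Smooth.StandardSmoothCotangent
import Mathlib.RingTheory.Smooth.Basic
import Mathlib.LinearAlgebra.TensorProduct.Quotient

/-!
# Regular sequences from Koszul-regular sequences after a smooth cover
-/

set_option autoImplicit false
set_option linter.style.haveILetI false
set_option backward.isDefEq.respectTransparency false
set_option backward.isDefEq.respectTransparency.types false
set_option maxHeartbeats 1000000

universe u

open MvPolynomial Groth.Agent.WiebeLib Groth.Agent.KRegLib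
open scoped TensorProduct

namespace Groth.Agent.RegCover

/-- Weak regularity of a finite sequence modulo an ideal. -/
def WReg {S : Type u} [CommRing S] (I : Ideal S) {c : ℕ} (g : Fin c → S) : Prop :=
  ∀ i : Fin c, ∀ x : S, x * g i ∈ I ⊔ Ideal.span (g '' {j | j < i}) → x ∈ I ⊔ Ideal.span (g '' {j | j < i})

/-- A Koszul exact sequence of positive length has no common annihilator. -/
theorem ann_eq_zero {A : Type u} [CommRing A] : ∀ {n : ℕ} {f : Fin (n + 1) → A}, IsExact f →
    ∀ z : A, (∀ i, z * f i = 0) → z = 0 := by
  intro n f hf z hz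
  have hd : d (n + 1) f n (z • top (n + 1)) = 0 := by
    funext i
    have h := d_mem (n + 1) f n (z • top (n + 1)) i
    rw [map_smul] at h ⊢
    have hmem := d_mem (n + 1) f n (top (n + 1)) i
    show z * d (n + 1) f n (top (n + 1)) i = 0
    have hle : Ideal.span (Set.range f) ≤ LinearMap.ker (LinearMap.mulLeft A z) := Ideal.span_le.2 (by
      rintro _ ⟨k, rfl⟩; exact hz k)
    exact hle hmem
  obtain ⟨y, hy⟩ := hf n _ hd
  haveI := subsingleton_ko A (show n + 1 < n + 1 + 1 by omega)
  rw [Subsingleton.elim y 0, map_zero] at hy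
  have := congrArg (coef (n + 1)) hy.symm
  simpa [coef_top] using this

theorem isExact_matrix' {A : Type u} [CommRing A] {n : ℕ} {f g : Fin n → A} (hf : IsExact f)
    (M : Matrix (Fin n) (Fin n) A) (hM : IsUnit M.det) (h : ∀ i, g i = ∑ j, M i j * f j) : IsExact g :=
  isExact_of_isUnit_det hf M⁻¹ (Matrix.isUnit_nonsing_inv_det M hM) fun i => by
    have e : g = M.mulVec f := funext h
    show f i = (M⁻¹.mulVec g) i
    rw [e, Matrix.mulVec_mulVec, Matrix.nonsing_inv_mul M hM, Matrix.one_mulVec]

theorem isExact_cast {A : Type u} [CommRing A] {m n : ℕ} (h : n = m) {f : Fin m → A} (hf : IsExact f) :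
    IsExact (f ∘ Fin.cast h) := by
  subst h
  simpa using hf

theorem isExact_appendSeq_one {A : Type u} [CommRing A] {c : ℕ} (a : A) (g : Fin c → A)
    (h : IsExact (Fin.cons a g : Fin (c + 1) → A)) : IsExact (appendSeq (fun _ : Fin 1 => a) c g) := by
  have key : ∀ {c : ℕ} (g : Fin c → A), appendSeq (fun _ : Fin 1 => a) c g =
      (Fin.snoc g a : Fin (c + 1) → A) ∘ Fin.cast (Nat.add_comm 1 c) := by
    intro c
    induction c with
    | zero => intro g; funext i; obtain rfl : i = ⟨0, by omega⟩ := Fin.ext (by omega); rfl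
    | succ c ih =>
      intro g
      show (Fin.cons (g 0) (appendSeq (fun _ : Fin 1 => a) c fun i => g i.succ) : Fin (1 + c + 1) → A) = _
      rw [ih]
      funext i
      refine Fin.cases ?_ (fun j => ?_) i
      · show g 0 = (Fin.snoc g a : Fin (c + 1 + 1) → A) 0
        exact (Fin.snoc_castSucc (α := fun _ => A) a g 0).symm
      · show (Fin.snoc (fun i => g i.succ) a : Fin (c + 1) → A) (Fin.cast (Nat.add_comm 1 c) j) =
          (Fin.snoc g a : Fin (c + 1 + 1) → A) (Fin.cast (Nat.add_comm 1 c) j).succ
        conv_rhs => rw [← Fin.cons_self_tail g, ← Fin.cons_snoc_eq_snoc_cons, Fin.cons_succ]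
        rfl
  rw [key, Fin.snoc_eq_cons_rotate]
  exact isExact_cast _ (isExact_comp_equiv h (finRotate _))

/-- The linear form with coefficients having no common annihilator is a nonzerodivisor. -/
theorem sum_X_mul_C_regular {A : Type u} [CommRing A] {n : ℕ} (a : Fin n → A)
    (ha : ∀ x : A, (∀ i, x * a i = 0) → x = 0) (P : MvPolynomial (Fin n) A)
    (hP : P * ∑ i, C (a i) * X i = 0) : P = 0 := by
  classical
  let F : MvPolynomial (Fin n) A := ∑ i, C (a i) * X i
  have key : ∀ i, ∀ (d : ℕ) (Q : MvPolynomial (Fin n) A), Q * F = 0 → (∀ m ∈ Q.support, m i < d) →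
      ∃ N : ℕ, C (a i) ^ N * Q = 0 := by
    intro i d
    induction d with
    | zero =>
      intro Q _ hs
      exact ⟨0, by rw [pow_zero, one_mul, ← support_eq_empty]; exact Finset.eq_empty_of_forall_notMem fun m hm => (hs m hm).not_ge (Nat.zero_le _)⟩
    | succ d ih =>
      intro Q hQ hs
      obtain ⟨N, hN⟩ := ih (C (a i) * Q) (by rw [mul_assoc, hQ, mul_zero]) fun m hm => by
        have hm1 : m ∈ Q.support := by
          rw [mem_support_iff] at hm ⊢
          intro h0; exact hm (by rw [coeff_C_mul, h0, mul_zero])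
        rcases (Nat.lt_succ_iff.1 (hs m hm1)).lt_or_eq with h | h
        · exact h
        · exfalso
          refine mem_support_iff.1 hm ?_
          have h2 := congrArg (coeff (m + Finsupp.single i 1)) hQ
          simp only [F, Finset.mul_sum, coeff_sum, coeff_zero] at h2
          rw [Finset.sum_eq_single i] at h2
          · rw [show Q * (C (a i) * X i) = (C (a i) * Q) * X i by ring, coeff_mul_X] at h2
            exact h2
          · intro j _ hj
            rw [show Q * (C (a j) * X j) = (C (a j) * Q) * X j by ring, coeff_mul_X']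
            split_ifs with hj'
            · rw [coeff_C_mul]
              have h3 : (m + Finsupp.single i 1 - Finsupp.single j 1) ∉ Q.support := fun hmem => by
                have := hs _ hmem
                simp [hj, Finsupp.tsub_apply] at this
                omega
              rw [notMem_support_iff.1 h3, mul_zero]
            · rfl
          · simp
      exact ⟨N + 1, by rw [pow_succ, mul_assoc, hN]⟩
  ext m
  rw [coeff_zero]
  let K : Ideal A := Ideal.span (Set.range a)
  have hK : K ≤ Ideal.radical (LinearMap.ker (LinearMap.mulRight A (P.coeff m))) := Ideal.span_le.2 (by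
    rintro _ ⟨i, rfl⟩
    obtain ⟨N, hN⟩ := key i (P.totalDegree + 1) P hP fun m' hm' =>
      Nat.lt_succ_of_le (le_trans (by
        by_cases h : i ∈ m'.support
        · exact Finset.single_le_sum (f := fun j => m' j) (fun _ _ => Nat.zero_le _) h
        · simp [Finsupp.notMem_support_iff.1 h]) (le_totalDegree hm'))
    refine ⟨N, ?_⟩
    have h := congrArg (coeff m) hN
    rw [← map_pow, coeff_C_mul, coeff_zero] at h
    exact h)
  obtain ⟨M, hM⟩ := Ideal.exists_pow_le_of_le_radical_of_fg hK (Submodule.fg_span (Set.finite_range a))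
  have hstep : ∀ M : ℕ, (∀ z ∈ K ^ M, z * P.coeff m = 0) → P.coeff m = 0 := by
    intro M
    induction M with
    | zero => intro h; simpa using h 1 (by simp)
    | succ M ih =>
      intro h
      refine ih fun z hz => ha _ fun i => ?_
      rw [mul_right_comm]
      exact h _ (pow_succ K M ▸ Ideal.mul_mem_mul hz (Ideal.subset_span ⟨i, rfl⟩))
  exact hstep M fun z hz => hM hz

/-- Non-zero-divisors modulo an ideal stay so under flat extensions. -/
theorem mul_mem_map_of_flat {R S : Type u} [CommRing R] [CommRing S] [Algebra R S] [Module.Flat R S]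
    (I : Ideal R) (a : R) (h : ∀ x, x * a ∈ I → x ∈ I) (x : S)
    (hx : x * algebraMap R S a ∈ I.map (algebraMap R S)) : x ∈ I.map (algebraMap R S) := by
  let e := TensorProduct.tensorQuotEquivQuotSMul S I
  have hinj : Function.Injective ((LinearMap.lsmul R (R ⧸ I) a).lTensor S) := by
    refine Module.Flat.lTensor_preserves_injective_linearMap _ ((injective_iff_map_eq_zero _).2 fun y hy => ?_)
    obtain ⟨y, rfl⟩ := Ideal.Quotient.mk_surjective y
    refine Ideal.Quotient.eq_zero_iff_mem.2 (h y ?_)
    rw [mul_comm]
    exact Ideal.Quotient.eq_zero_iff_mem.1 (by simpa [Algebra.smul_def] using hy)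
  have hm : ∀ z : S, z ∈ I.map (algebraMap R S) ↔ z ⊗ₜ[R] (1 : R ⧸ I) = 0 := fun z => by
    rw [← e.map_eq_zero_iff, show e (z ⊗ₜ[R] (1 : R ⧸ I)) = Submodule.Quotient.mk z from
      TensorProduct.tensorQuotEquivQuotSMul_tmul_mk I z (1 : R) |>.trans (by rw [one_smul]),
      Submodule.Quotient.mk_eq_zero, Ideal.smul_top_eq_map]
    rfl
  rw [hm]
  refine hinj ?_
  rw [map_zero, LinearMap.lTensor_tmul, LinearMap.lsmul_apply, TensorProduct.tmul_smul, TensorProduct.smul_tmul',
    Algebra.smul_def, mul_comm]
  exact (hm _).1 hx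

/-- The kernel of a coefficientwise map of Laurent-localized polynomial rings. -/
theorem ker_away_map {R A : Type u} [CommRing R] [CommRing A] (q : R →+* A) {n : ℕ} (i : Fin n) :
    RingHom.ker (IsLocalization.map (Localization.Away (X i : MvPolynomial (Fin n) A))
        (MvPolynomial.map q) (show Submonoid.powers (X i : MvPolynomial (Fin n) R) ≤
          (Submonoid.powers (X i : MvPolynomial (Fin n) A)).comap (MvPolynomial.map q) by
          rw [Submonoid.powers_le]; exact ⟨1, by simp⟩) :
        Localization.Away (X i : MvPolynomial (Fin n) R) →+* _) =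
      (RingHom.ker q).map (algebraMap R (Localization.Away (X i : MvPolynomial (Fin n) R))) := by
  rw [IsLocalization.ker_map _ _ (by rw [Submonoid.map_powers, map_X]), MvPolynomial.ker_map, Ideal.map_map,
    IsScalarTower.algebraMap_eq R (MvPolynomial (Fin n) R) (Localization.Away (X i : MvPolynomial (Fin n) R))]
  rfl

/-- A Koszul-regular sequence becomes, after a smooth cover, a regular sequence generating the same ideal. -/
theorem exists_smooth_wreg : ∀ (c : ℕ) (R A : Type u) [CommRing R] [CommRing A] (q : R →+* A),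
    Function.Surjective q → ∀ f : Fin c → R, IsExact (fun i => q (f i)) →
    ∃ (R' : Type u) (_ : CommRing R') (_ : Algebra R R'), Algebra.Smooth R R' ∧
      (∀ p : Ideal R, p.IsPrime → RingHom.ker q ⊔ Ideal.span (Set.range f) ≤ p →
        ∃ Q : Ideal R', Q.IsPrime ∧ Q.comap (algebraMap R R') = p) ∧
      ∃ g : Fin c → R', WReg ((RingHom.ker q).map (algebraMap R R')) g ∧
        (RingHom.ker q).map (algebraMap R R') ⊔ Ideal.span (Set.range g) =
          (RingHom.ker q ⊔ Ideal.span (Set.range f)).map (algebraMap R R') := by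
  intro c
  induction c with
  | zero =>
    intro R A _ _ q _ f _
    exact ⟨R, inferInstance, inferInstance, inferInstance, fun p hp _ => ⟨p, hp, rfl⟩, Fin.elim0,
      fun i => i.elim0, by simp [Set.range_eq_empty]⟩
  | succ c ih =>
    intro R A _ _ q hq f hf
    let i₀ : Fin (c + 1) := 0
    let R1 := Localization.Away (X i₀ : MvPolynomial (Fin (c + 1)) R)
    let A1 := Localization.Away (X i₀ : MvPolynomial (Fin (c + 1)) A)
    have hle : Submonoid.powers (X i₀ : MvPolynomial (Fin (c + 1)) R) ≤
          (Submonoid.powers (X i₀ : MvPolynomial (Fin (c + 1)) A)).comap (MvPolynomial.map q) := by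
      rw [Submonoid.powers_le]; exact ⟨1, by simp⟩
    let q1 : R1 →+* A1 := IsLocalization.map A1 (MvPolynomial.map q) hle
    haveI : IsLocalization ((Submonoid.powers (X i₀ : MvPolynomial (Fin (c + 1)) R)).map (MvPolynomial.map q)) A1 := by
      rw [Submonoid.map_powers, map_X]; infer_instance
    have hq1 : Function.Surjective q1 := IsLocalization.map_surjective_of_surjective
      (S := R1) (M := Submonoid.powers (X i₀ : MvPolynomial (Fin (c + 1)) R)) (Q := A1) (g := MvPolynomial.map q)
      (MvPolynomial.map_surjective q hq)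
    have hker1 : RingHom.ker q1 = (RingHom.ker q).map (algebraMap R R1) := ker_away_map q i₀
    have hcomm : ∀ r, q1 (algebraMap R R1 r) = algebraMap A A1 (q r) := fun r => by
      rw [IsScalarTower.algebraMap_apply R (MvPolynomial (Fin (c + 1)) R) R1,
        IsScalarTower.algebraMap_apply A (MvPolynomial (Fin (c + 1)) A) A1, IsLocalization.map_eq]
      simp [MvPolynomial.algebraMap_eq]
    let T : Fin (c + 1) → R1 := fun i => algebraMap (MvPolynomial (Fin (c + 1)) R) R1 (X i)
    have hT : IsUnit (T i₀) := IsLocalization.Away.algebraMap_isUnit (X i₀ : MvPolynomial (Fin (c + 1)) R)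
    let fR : Fin (c + 1) → R1 := fun i => algebraMap R R1 (f i)
    let g₀ : R1 := ∑ i, T i * fR i
    haveI : Module.Flat (MvPolynomial (Fin (c + 1)) A) A1 := IsLocalization.flat _ (Submonoid.powers (X i₀))
    haveI : Module.Flat A A1 := Module.Flat.trans A (MvPolynomial (Fin (c + 1)) A) A1
    have hreg : IsSMulRegular A1 (q1 g₀) := by
      let F : MvPolynomial (Fin (c + 1)) A := ∑ i, C (q (f i)) * X i
      have hF : q1 g₀ = algebraMap _ A1 F := by
        simp only [g₀, F, T, fR, map_sum, map_mul, hcomm, q1, IsLocalization.map_eq, MvPolynomial.map_X]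
        exact Finset.sum_congr rfl fun i _ => by
          rw [mul_comm, IsScalarTower.algebraMap_apply A (MvPolynomial (Fin (c + 1)) A) A1,
            MvPolynomial.algebraMap_eq]
      have hFr : IsSMulRegular (MvPolynomial (Fin (c + 1)) A) F := fun x y (hxy : F • x = F • y) => by
        refine sub_eq_zero.1 (sum_X_mul_C_regular (fun i => q (f i)) (fun z hz => ?_) (x - y) ?_)
        · exact ann_eq_zero hf z hz
        · rw [smul_eq_mul, smul_eq_mul] at hxy
          show (x - y) * F = 0
          rw [sub_mul, mul_comm x, mul_comm y, hxy, sub_self]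
      rw [hF]
      exact hFr.of_flat
    let f' : Fin c → R1 := fun i => fR i.succ
    have hex1 : IsExact (appendSeq (fun _ : Fin 1 => q1 g₀) c fun i => q1 (f' i)) := by
      let G : Fin (c + 1) → A1 := Fin.cons (q1 g₀) fun i => q1 (f' i)
      have h1 : IsExact fun i => algebraMap A A1 (q (f i)) := WiebeLib.isExact_map hf
      have h2 : IsExact G := by
        let M : Matrix (Fin (c + 1)) (Fin (c + 1)) A1 :=
          Matrix.of fun i j => if i = i₀ then q1 (T j) else if j = i then 1 else 0
        have hM : IsUnit M.det := by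
          have htri : M.BlockTriangular id := fun i j (hij : j < i) => by
            have h0 : i ≠ i₀ := fun h => by simp [h, i₀] at hij
            simp [M, h0, ne_of_lt hij]
          rw [Matrix.det_of_upperTriangular htri]
          refine IsUnit.prod_univ_iff.2 fun i => ?_
          by_cases h : i = i₀
          · subst h; simpa [M] using hT.map q1
          · simp [M, h]
        refine isExact_matrix' h1 M hM fun i => ?_
        refine Fin.cases ?_ (fun j => ?_) i
        · simp only [G, Fin.cons_zero, g₀, M, Matrix.of_apply, map_sum, map_mul, i₀, if_true]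
          exact Finset.sum_congr rfl fun j _ => by rw [← hcomm]
        · simp [G, M, f', fR, hcomm, i₀, Fin.succ_ne_zero]
      exact isExact_appendSeq_one _ _ h2
    let A2 := A1 ⧸ Ideal.span (Set.range fun _ : Fin 1 => q1 g₀)
    let q2 : R1 →+* A2 := (Ideal.Quotient.mk _).comp q1
    have hex2 : IsExact fun i => q2 (f' i) :=
      isExact_of_appendSeq (isExact_single hreg) Ideal.Quotient.mk_surjective Ideal.mk_ker _ hex1
    obtain ⟨R', _, _, hsm, hpt, g', hg', hspan⟩ := ih R1 A2 q2 (Ideal.Quotient.mk_surjective.comp hq1) f' hex2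
    letI : Algebra R R' := ((algebraMap R1 R').comp (algebraMap R R1)).toAlgebra
    haveI : IsScalarTower R R1 R' := IsScalarTower.of_algebraMap_eq' rfl
    haveI : Algebra.Smooth R (MvPolynomial (Fin (c + 1)) R) := ⟨inferInstance, inferInstance⟩
    haveI : Algebra.Smooth (MvPolynomial (Fin (c + 1)) R) R1 :=
      Algebra.Smooth.of_isLocalization_Away (X i₀ : MvPolynomial (Fin (c + 1)) R)
    haveI : Algebra.Smooth R R1 := Algebra.Smooth.comp R (MvPolynomial (Fin (c + 1)) R) R1
    haveI := hsm
    have hker2 : RingHom.ker q2 = (RingHom.ker q).map (algebraMap R R1) ⊔ Ideal.span {g₀} := by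
      rw [show RingHom.ker q2 = (Ideal.span (Set.range fun _ : Fin 1 => q1 g₀)).comap q1 by
        rw [← RingHom.comap_ker, Ideal.mk_ker], show Set.range (fun _ : Fin 1 => q1 g₀) = q1 '' {g₀} by simp,
        ← Ideal.map_span, Ideal.comap_map_of_surjective _ hq1, ← hker1, sup_comm]
      rfl
    have hspanf : Ideal.span (Set.range fR) = (Ideal.span (Set.range f)).map (algebraMap R R1) := by
      rw [Ideal.map_span, ← Set.range_comp]; rfl
    have hJ : RingHom.ker q2 ⊔ Ideal.span (Set.range f') =
        (RingHom.ker q ⊔ Ideal.span (Set.range f)).map (algebraMap R R1) := by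
      rw [hker2, Ideal.map_sup, ← hspanf, sup_assoc]
      congr 1
      refine le_antisymm (sup_le ((Ideal.span_singleton_le_iff_mem _).2 (Ideal.sum_mem _ fun i _ =>
        Ideal.mul_mem_left _ _ (Ideal.subset_span ⟨i, rfl⟩))) (Ideal.span_mono fun _ ⟨i, h⟩ => ⟨i.succ, h⟩))
        (Ideal.span_le.2 ?_)
      rintro _ ⟨i, rfl⟩
      refine Fin.cases ?_ (fun j => Ideal.mem_sup_right (Ideal.subset_span ⟨j, rfl⟩)) i
      refine (Ideal.unit_mul_mem_iff_mem _ hT).1 ?_
      show T 0 * fR 0 ∈ _
      rw [show T 0 * fR 0 = g₀ - ∑ j : Fin c, T j.succ * f' j by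
        simp only [g₀, Fin.sum_univ_succ, f']; ring]
      exact sub_mem (Ideal.mem_sup_left (Ideal.mem_span_singleton_self _))
        (Ideal.mem_sup_right (Ideal.sum_mem _ fun j _ => Ideal.mul_mem_left _ _ (Ideal.subset_span ⟨j, rfl⟩)))
    refine ⟨R', inferInstance, inferInstance, Algebra.Smooth.comp R R1 R', fun p hp hle => ?_,
      Fin.cons (algebraMap R1 R' g₀) g', ?_, ?_⟩
    · let ev : MvPolynomial (Fin (c + 1)) R →+* p.ResidueField :=
        eval₂Hom (algebraMap R p.ResidueField) fun _ => 1
      let ψ : R1 →+* p.ResidueField := IsLocalization.Away.lift (X i₀ : MvPolynomial (Fin (c + 1)) R)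
        (show IsUnit (ev (X i₀)) by simp [ev])
      have hψ : ψ.comp (algebraMap R R1) = algebraMap R p.ResidueField := by
        refine RingHom.ext fun r => ?_
        rw [RingHom.comp_apply, IsScalarTower.algebraMap_apply R (MvPolynomial (Fin (c + 1)) R) R1]
        simp [ψ, ev, MvPolynomial.algebraMap_eq]
      have hP : (RingHom.ker ψ).comap (algebraMap R R1) = p := by
        rw [RingHom.comap_ker, hψ, Ideal.ker_algebraMap_residueField]
      obtain ⟨Q, hQ, hQ'⟩ := hpt (RingHom.ker ψ) (RingHom.ker_isPrime ψ) (by
        rw [hJ, Ideal.map_le_iff_le_comap, hP]; exact hle)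
      exact ⟨Q, hQ, by rw [IsScalarTower.algebraMap_eq R R1 R', ← Ideal.comap_comap, hQ', hP]⟩
    · intro i x hx
      refine Fin.cases ?_ (fun j => ?_) i x hx
      · intro x hx
        have h0 : {j : Fin (c + 1) | j < 0} = ∅ := by simp
        rw [h0, Set.image_empty, Ideal.span_empty, sup_bot_eq, Fin.cons_zero,
          IsScalarTower.algebraMap_eq R R1 R', ← Ideal.map_map, ← hker1] at hx
        rw [h0, Set.image_empty, Ideal.span_empty, sup_bot_eq, IsScalarTower.algebraMap_eq R R1 R', ← Ideal.map_map,
          ← hker1]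
        refine mul_mem_map_of_flat _ g₀ (fun y hy => ?_) x hx
        rw [RingHom.mem_ker, map_mul, mul_comm] at hy
        exact hreg (show q1 g₀ • q1 y = q1 g₀ • (0 : A1) by rw [smul_zero, smul_eq_mul, hy])
      · intro x hx
        have h1 : {k : Fin (c + 1) | k < j.succ} = insert 0 (Fin.succ '' {k | k < j}) := by
          ext k
          refine Fin.cases ?_ (fun k => ?_) k
          · simp [Fin.succ_pos]
          · simp [Fin.succ_ne_zero, Fin.succ_lt_succ_iff]
        have h2 : (RingHom.ker q).map (algebraMap R R') ⊔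
            Ideal.span (Fin.cons (algebraMap R1 R' g₀) g' '' {k | k < j.succ}) =
            (RingHom.ker q2).map (algebraMap R1 R') ⊔ Ideal.span (g' '' {k | k < j}) := by
          rw [h1, Set.image_insert_eq, Set.image_image, Ideal.span_insert, hker2, Ideal.map_sup, Ideal.map_map,
            Ideal.map_span, Set.image_singleton, ← IsScalarTower.algebraMap_eq, sup_assoc]
          simp
        rw [Fin.cons_succ, h2] at hx
        rw [h2]
        exact hg' j x hx
    · rw [Fin.range_cons, Ideal.span_insert, IsScalarTower.algebraMap_eq R R1 R', ← Ideal.map_map, ← sup_assoc,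
        ← Ideal.map_map _ _ (I := RingHom.ker q ⊔ _), ← hJ, ← hspan, hker2, Ideal.map_sup, Ideal.map_span,
        Set.image_singleton]

end Groth.Agent.RegCover
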